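import Mathlib.FieldTheory.ChevalleyWarning
import Mathlib.LinearAlgebra.Dimension.Free
import Mathlib.LinearAlgebra.FiniteDimensional.Lemmas
import Mathlib.Algebra.CharP.Algebra
import Mathlib.LinearAlgebra.BilinearMap

/-!
# Common zeros of quadratic forms over finite fields (helper36, task 445 for S3386)

`common_zero` : fewer than `dim V / 2` bilinear forms over a finite field have a common isotropic vector
(Chevalley-Warning).
-/

set_option autoImplicit false

namespace Cfsg.Agent.H36.Sims

open MvPolynomial

theorem common_zero {k V : Type} [Field k] [Finite k] [AddCommGroup V] [Module k V] [Module.Finite k V] {ι : Type}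
    [Fintype ι] (B : ι → V →ₗ[k] V →ₗ[k] k) (h : 2 * Fintype.card ι < Module.finrank k V) :
    ∃ v : V, v ≠ 0 ∧ ∀ i, B i v v = 0 := by
  classical
  have : Fintype k := Fintype.ofFinite k
  obtain ⟨p, hp⟩ := CharP.exists k
  have hpp : Fact p.Prime := ⟨CharP.char_is_prime k p⟩
  let n := Module.finrank k V
  let b : Module.Basis (Fin n) k V := Module.finBasis k V
  let f : ι → MvPolynomial (Fin n) k := fun i => ∑ a, ∑ c, C (B i (b a) (b c)) * (X a * X c)
  have hf : ∀ i, (f i).totalDegree ≤ 2 := by
    intro i
    refine totalDegree_finsetSum_le fun a _ => totalDegree_finsetSum_le fun c _ => ?_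
    refine (totalDegree_mul _ _).trans ?_
    rw [totalDegree_C, zero_add]
    refine (totalDegree_mul _ _).trans ?_
    rw [totalDegree_X, totalDegree_X]
  have hsum : (∑ i, (f i).totalDegree) < Fintype.card (Fin n) := by
    rw [Fintype.card_fin]
    calc ∑ i, (f i).totalDegree ≤ ∑ _i : ι, 2 := Finset.sum_le_sum fun i _ => hf i
      _ = 2 * Fintype.card ι := by simp [mul_comm]
      _ < n := h
  have hdvd := char_dvd_card_solutions_of_fintype_sum_lt p hsum
  have heval : ∀ (i : ι) (x : Fin n → k), eval x (f i) = B i (b.equivFun.symm x) (b.equivFun.symm x) := by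
    intro i x
    rw [Module.Basis.equivFun_symm_apply]
    simp only [f, map_sum, map_mul, eval_C, eval_X, map_smul, LinearMap.sum_apply, LinearMap.smul_apply, smul_eq_mul]
    rw [Finset.sum_comm]
    refine Finset.sum_congr rfl fun a _ => ?_
    rw [Finset.mul_sum]
    refine Finset.sum_congr rfl fun c _ => ?_
    ring
  let Z := { x : Fin n → k // ∀ i, eval x (f i) = 0 }
  have h0 : ∀ i, eval (0 : Fin n → k) (f i) = 0 := by
    intro i
    rw [heval, map_zero, map_zero]
  have hcard : 1 < Fintype.card Z := by
    have h1 : 0 < Fintype.card Z := Fintype.card_pos_iff.2 ⟨⟨0, h0⟩⟩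
    exact lt_of_lt_of_le hpp.out.one_lt (Nat.le_of_dvd h1 hdvd)
  have : Nontrivial Z := Fintype.one_lt_card_iff_nontrivial.1 hcard
  obtain ⟨z, hz⟩ := exists_ne (⟨0, h0⟩ : Z)
  refine ⟨b.equivFun.symm z.1, ?_, fun i => ?_⟩
  · intro h2
    apply hz
    apply Subtype.ext
    exact b.equivFun.symm.map_eq_zero_iff.1 h2
  · rw [← heval]; exact z.2 i

end Cfsg.Agent.H36.Sims
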